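import Cfsg.Agent.H214.OT.Env

/-!
# S2539, END_l, R9: `Ψ = A₂` (helper48)

`six_A2` : if `Ψ` has six members then `M/T` has exponent dividing 6 and order dividing 12.
-/

set_option autoImplicit false

namespace Cfsg.Agent.H48.OT

open Subgroup Cfsg.Agent.H712.OT Cfsg.Agent.H214.OT

universe u v w

/-- the Cartan numbers of `A₂`, the roots being numbered along the hexagon -/
def Q (i j : ZMod 6) : ℤ :=
  if i = j then 2 else if i = j + 1 ∨ j = i + 1 then 1 else if i = j + 3 then -2 else -1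

theorem Q_two : ∀ i j : ZMod 6, Q i j = 2 → i = j := by decide

/-- the symmetries of the hexagon -/
def aff (s : ZMod 6) (e : Bool) : Equiv.Perm (ZMod 6) where
  toFun x := if e then s + x else s - x
  invFun x := if e then x - s else s - x
  left_inv x := by cases e <;> simp
  right_inv x := by cases e <;> simp

theorem aff_Q : ∀ (s : ZMod 6) (e : Bool) (i j : ZMod 6), Q (aff s e i) (aff s e j) = Q i j := by decide

theorem aff_six : ∀ (s : ZMod 6) (e : Bool) (x : ZMod 6), (aff s e)^[6] x = x := by decide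

theorem uniq_one : ∀ s t : ZMod 6, Q t s = 1 → ∃ e : Bool, t = aff s e 1 := by decide

theorem uniq_two : ∀ (s : ZMod 6) (e : Bool) (x i : ZMod 6), Q x s = Q i 0 → Q x (aff s e 1) = Q i 1 →
    x = aff s e i := by decide

theorem uniq {σ : ZMod 6 → ZMod 6} (h : ∀ i j, Q (σ i) (σ j) = Q i j) : ∃ e : Bool, ∀ i, σ i = aff (σ 0) e i := by
  obtain ⟨e, he⟩ := uniq_one (σ 0) (σ 1) ((h 1 0).trans (by decide))
  refine ⟨e, fun i => uniq_two (σ 0) e (σ i) i (h i 0) ?_⟩
  rw [← he]
  exact h i 1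

/-- the group of the symmetries of the hexagon -/
def HexA : Subgroup (Equiv.Perm (ZMod 6)) where
  carrier := {σ | ∀ i j, Q (σ i) (σ j) = Q i j}
  one_mem' := fun _ _ => rfl
  mul_mem' := fun {a b} ha hb i j => by
    rw [Equiv.Perm.mul_apply, Equiv.Perm.mul_apply, ha, hb]
  inv_mem' := fun {a} ha i j => by
    have h := ha (a⁻¹ i) (a⁻¹ j)
    have h1 : ∀ x, a (a⁻¹ x) = x := fun x => Equiv.apply_symm_apply a x
    rw [h1, h1] at h
    exact h.symm

theorem mem_HexA {σ : Equiv.Perm (ZMod 6)} : σ ∈ HexA ↔ ∀ i j, Q (σ i) (σ j) = Q i j := Iff.rfl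

theorem exists_aff {σ : Equiv.Perm (ZMod 6)} (h : σ ∈ HexA) : ∃ e : Bool, σ = aff (σ 0) e := by
  obtain ⟨e, he⟩ := uniq (σ := σ) h
  exact ⟨e, Equiv.ext he⟩

theorem aff_inj : ∀ (s s' : ZMod 6) (e e' : Bool), aff s e 0 = aff s' e' 0 → aff s e 1 = aff s' e' 1 →
    s = s' ∧ e = e' := by decide

theorem card_HexA : Nat.card HexA = 12 := by
  have h : Function.Bijective fun p : ZMod 6 × Bool => (⟨aff p.1 p.2, aff_Q p.1 p.2⟩ : HexA) := by
    constructor
    · rintro ⟨s, e⟩ ⟨s', e'⟩ h
      have h1 : aff s e = aff s' e' := congrArg Subtype.val h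
      obtain ⟨h2, h3⟩ := aff_inj s s' e e' (by rw [h1]) (by rw [h1])
      rw [h2, h3]
    · rintro ⟨σ, hσ⟩
      obtain ⟨e, he⟩ := exists_aff hσ
      exact ⟨(σ 0, e), Subtype.ext he.symm⟩
  rw [← Nat.card_congr (Equiv.ofBijective _ h), Nat.card_prod, Nat.card_zmod, Nat.card_eq_fintype_card,
    Fintype.card_bool]

theorem pow_six {σ : Equiv.Perm (ZMod 6)} (h : σ ∈ HexA) : σ ^ 6 = 1 := by
  obtain ⟨e, he⟩ := exists_aff h
  ext x
  rw [he, ← Equiv.Perm.iterate_eq_pow, aff_six]
  rfl

variable {K : Type u} [Field K] [Fintype K] {Y : Type v} [Group Y] {T M : Subgroup Y}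
  {Φ : Type w} {Ψ : Set Φ} {P : Φ → Φ → ℤ}

/-- the hexagon -/
theorem exists_hex (X : Ctx K Y T M Φ Ψ P) : ∃ r : ZMod 6 → Φ, (∀ i, r i ∈ Ψ) ∧ ∀ i j, P (r i) (r j) = Q i j := by
  obtain ⟨a, ha, b, hb, hab⟩ := X.rank
  obtain ⟨c, hc, hcx, -⟩ := X.add a ha b hb hab
  have hba : P b a = -1 := by rw [X.symm, hab]
  have hca : P c a = 1 := by rw [hcx, X.self, hba]; norm_num
  have hcb : P c b = 1 := by rw [hcx, X.self, hab]; norm_num
  have hac : P a c = 1 := by rw [X.symm, hca]
  have hbc : P b c = 1 := by rw [X.symm, hcb]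
  have hn : ∀ x y, P x (X.neg y) = - P x y := fun x y => by rw [X.symm, X.P_neg, X.symm]
  let r : ZMod 6 → Φ := fun i : Fin 6 => ![a, c, b, X.neg a, X.neg c, X.neg b] i
  refine ⟨r, ?_, ?_⟩
  · intro i
    fin_cases i
    · exact ha
    · exact hc
    · exact hb
    · exact X.neg_mem a ha
    · exact X.neg_mem c hc
    · exact X.neg_mem b hb
  · intro i j
    fin_cases i <;> fin_cases j
    · exact X.self a
    · exact hac
    · exact hab
    · exact (show P a (X.neg a) = -2 by rw [hn, X.self a])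
    · exact (show P a (X.neg c) = -1 by rw [hn, hac])
    · exact (show P a (X.neg b) = 1 by rw [hn, hab]; norm_num)
    · exact hca
    · exact X.self c
    · exact hcb
    · exact (show P c (X.neg a) = -1 by rw [hn, hca])
    · exact (show P c (X.neg c) = -2 by rw [hn, X.self c])
    · exact (show P c (X.neg b) = -1 by rw [hn, hcb])
    · exact hba
    · exact hbc
    · exact X.self b
    · exact (show P b (X.neg a) = 1 by rw [hn, hba]; norm_num)
    · exact (show P b (X.neg c) = -1 by rw [hn, hbc])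
    · exact (show P b (X.neg b) = -2 by rw [hn, X.self b])
    · exact (show P (X.neg a) a = -2 by rw [X.P_neg, X.self a])
    · exact (show P (X.neg a) c = -1 by rw [X.P_neg, hac])
    · exact (show P (X.neg a) b = 1 by rw [X.P_neg, hab]; norm_num)
    · exact (show P (X.neg a) (X.neg a) = 2 by rw [X.P_neg, hn, X.self a]; norm_num)
    · exact (show P (X.neg a) (X.neg c) = 1 by rw [X.P_neg, hn, hac]; norm_num)
    · exact (show P (X.neg a) (X.neg b) = -1 by rw [X.P_neg, hn, hab]; norm_num)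
    · exact (show P (X.neg c) a = -1 by rw [X.P_neg, hca])
    · exact (show P (X.neg c) c = -2 by rw [X.P_neg, X.self c])
    · exact (show P (X.neg c) b = -1 by rw [X.P_neg, hcb])
    · exact (show P (X.neg c) (X.neg a) = 1 by rw [X.P_neg, hn, hca]; norm_num)
    · exact (show P (X.neg c) (X.neg c) = 2 by rw [X.P_neg, hn, X.self c]; norm_num)
    · exact (show P (X.neg c) (X.neg b) = 1 by rw [X.P_neg, hn, hcb]; norm_num)
    · exact (show P (X.neg b) a = 1 by rw [X.P_neg, hba]; norm_num)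
    · exact (show P (X.neg b) c = -1 by rw [X.P_neg, hbc])
    · exact (show P (X.neg b) b = -2 by rw [X.P_neg, X.self b])
    · exact (show P (X.neg b) (X.neg a) = -1 by rw [X.P_neg, hn, hba]; norm_num)
    · exact (show P (X.neg b) (X.neg c) = 1 by rw [X.P_neg, hn, hbc]; norm_num)
    · exact (show P (X.neg b) (X.neg b) = 2 by rw [X.P_neg, hn, X.self b]; norm_num)

/-- **R9** : if `Ψ` is of type `A₂` then the exponent of `M/T` divides 6 and its order divides 12. -/
theorem six_A2 [Finite Y] (X : Ctx K Y T M Φ Ψ P) (h6 : Nat.card Ψ = 6) :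
    (∀ m ∈ M, m ^ 6 ∈ T) ∧ (T.subgroupOf M).index ∣ 12 := by
  obtain ⟨r, hr, hP⟩ := exists_hex X
  have hfin : Finite Ψ := Nat.finite_of_card_ne_zero (by rw [h6]; norm_num)
  have hinj : Function.Injective fun i : ZMod 6 => (⟨r i, hr i⟩ : Ψ) := by
    intro i j h
    have h1 : r i = r j := congrArg Subtype.val h
    have h2 : Q i j = 2 := by rw [← hP, h1, X.self]
    exact Q_two i j h2
  let e : ZMod 6 ≃ Ψ := Equiv.ofBijective _ ((Nat.bijective_iff_injective_and_card _).2
    ⟨hinj, by rw [Nat.card_zmod, h6]⟩)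
  have he : ∀ i, ((e i : Ψ) : Φ) = r i := fun _ => rfl
  have hiff : ∀ (m : M) (x : Φ), X.act m x ∈ Ψ ↔ x ∈ Ψ := by
    intro m x
    refine ⟨fun h => ?_, X.act_mem m x⟩
    have h1 := X.act_mem m⁻¹ _ h
    have h2 : X.act m⁻¹ (X.act m x) = x := by
      rw [← Equiv.Perm.mul_apply, ← map_mul, inv_mul_cancel, map_one]
      rfl
    rwa [h2] at h1
  let ρ : M →* Equiv.Perm Ψ :=
    { toFun := fun m => (X.act m).subtypePerm (hiff m)
      map_one' := by
        ext x
        show ((X.act 1) (x : Φ)) = x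
        rw [map_one]
        rfl
      map_mul' := fun m n => by
        ext x
        show ((X.act (m * n)) (x : Φ)) = X.act m (X.act n x)
        rw [map_mul]
        rfl }
  let φ : M →* Equiv.Perm (ZMod 6) := (e.permCongrHom.symm : Equiv.Perm Ψ ≃* Equiv.Perm (ZMod 6)).toMonoidHom.comp ρ
  have hφ : ∀ m i, r (φ m i) = X.act m (r i) := by
    intro m i
    rw [← he]
    have h1 : e (φ m i) = ρ m (e i) := by
      show e (e.symm (ρ m (e i))) = _
      rw [Equiv.apply_symm_apply]
    rw [h1]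
    rfl
  have hmem : ∀ m, φ m ∈ HexA := by
    intro m i j
    rw [← hP, hφ, hφ, X.act_P, hP]
  have hker : φ.ker = T.subgroupOf M := by
    ext m
    rw [MonoidHom.mem_ker, mem_subgroupOf, X.act_T]
    constructor
    · intro h x hx
      obtain ⟨i, hi⟩ := e.surjective ⟨x, hx⟩
      have h1 : r i = x := congrArg Subtype.val hi
      rw [← h1, ← hφ, h]
      rfl
    · intro h
      ext i
      have h1 := hφ m i
      rw [h _ (hr i)] at h1
      have h2 := hinj (a₁ := φ m i) (a₂ := i) (Subtype.ext h1)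
      rw [h2]
      rfl
  constructor
  · intro m hm
    have h1 : (⟨m, hm⟩ : M) ^ 6 ∈ φ.ker := by
      rw [MonoidHom.mem_ker, map_pow, pow_six (hmem _)]
    rw [hker, mem_subgroupOf] at h1
    exact h1
  · rw [← hker, index_ker, ← card_HexA]
    exact card_dvd_of_le (by
      rintro _ ⟨m, rfl⟩
      exact hmem m)

end Cfsg.Agent.H48.OT
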