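import Cfsg.Agent.H893.OT.KPrime
import Cfsg.Agent.H428.OT.Tab
import Cfsg.Agent.H3.OT.Weyl
import Cfsg.Agent.ChevalleyStructure.RootVecTab
import Cfsg.Agent.S1025

/-!
# S2539, 2.3: `Ψ` is irreducible (helper48)

* `pr_zero_comm` : `⟨s, r^∨⟩ = 0 → ⟨r, s^∨⟩ = 0`; `pr_add`, `chi_add` : additivity of the Cartan numbers and of the
  values of the roots along the terms of the commutator formula;
* `root_comm` : for a decomposition `Ψ = P₁ ∪ P₂` into orthogonal parts the root subgroups of the two parts commute;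
* `psi_irr` : a least bad group `F` with `S_F = ∅` and `F ≤ G(Ψ)` has irreducible `Ψ`.
-/

set_option autoImplicit false
set_option linter.unusedSectionVars false

namespace Cfsg.Agent.H48.OT

open Subgroup Cfsg Cfsg.Lie Cfsg.Lie.ChevalleyDatum Cfsg.Agent.H412.OT Cfsg.Agent.H186.OT
open Cfsg.Agent.ChevalleyStructure Cfsg.Agent.ChevalleyStructure.Elts Cfsg.Agent.ChevalleyStructure.RootVec
  Cfsg.Agent.ChevalleyStructure.RootVecTab

universe u

variable {D : ChevalleyDatum}

section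

open CoxeterSystem Cfsg.Agent.ChevalleyStructure.NPerm Cfsg.Agent.ChevalleyStructure.CoxeterGeom
  Cfsg.Agent.Tits.Roots Cfsg.Agent.Nodes.Reps Cfsg.Agent.Nodes.BNOf Cfsg.Agent.Nodes.Bruhat Cfsg.Agent.Nodes.Coroot
  Cfsg.Agent.Nodes.RGDChev Cfsg.Agent.KFacts.RgdChevCoord

/-- orthogonality of roots is symmetric -/
theorem pr_zero_comm (hD : InList D) {r s : ℕ} (hr : r < D.nroots) (hs : s < D.nroots) (h : pr D r s = 0) :
    pr D s r = 0 := by
  obtain ⟨l, M, hp⟩ := H3.OT.exists_isType hD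
  let cs : CoxeterSystem M M.Group := M.toCoxeterSystem
  have hW : Finite M.Group := finite_W hp cs
  rw [← H3.OT.cpr_vec' hp cs hr hs] at h
  rw [← H3.OT.cpr_vec' hp cs hs hr]
  exact (cpr_zero_comm cs _ (isRoot_vec hp cs hs) (isRoot_vec hp cs hr)).1 h

end

/-- the Cartan numbers are additive along the commutator terms -/
theorem pr_add (hD : InList D) {u r s t : ℕ} {i j : ℕ} (hu : u < D.nroots) (hr : r < D.nroots) (hs : s < D.nroots)
    (e : ∀ a, rt D u a = (i : ℤ) * rt D r a + (j : ℤ) * rt D s a) :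
    pr D t u = i * pr D t r + j * pr D t s := by
  have h1 : ∀ x, pr D t x = ∑ k ∈ Finset.range D.rank, co D t k * D.cartan k x := fun _ => rfl
  rw [h1, h1, h1, Finset.mul_sum, Finset.mul_sum, ← Finset.sum_add_distrib]
  refine Finset.sum_congr rfl fun k hk => ?_
  rw [cartan_of_rt (checked_of_mem hD) hu hr hs (fun a _ => e a) (Finset.mem_range.1 hk)]
  ring

variable {K : Type u} [Field K]

/-- the values of the roots are multiplicative along the commutator terms -/
theorem chi_add (hD : InList D) {t : GL D.Idx K} (ht : t ∈ D.diagonalSubgroup K) {u r s : ℕ} {i j : ℕ}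
    (hu : u < D.nroots) (hr : r < D.nroots) (hs : s < D.nroots)
    (e : ∀ a, rt D u a = (i : ℤ) * rt D r a + (j : ℤ) * rt D s a) :
    chi D K t u = chi D K t r ^ i * chi D K t s ^ j := by
  obtain ⟨c, hc, e1, -⟩ := tor_data hD ht
  have h1 : ∀ x < D.nroots, chi D K t x = ∏ k ∈ Finset.range D.rank, c k ^ D.cartan k x := by
    intro x hx
    rw [chi, dif_pos hx, e1, Matrix.diagonal_apply_eq, Sum.elim_inr]
  rw [h1 u hu, h1 r hr, h1 s hs, ← Finset.prod_pow, ← Finset.prod_pow, ← Finset.prod_mul_distrib]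
  refine Finset.prod_congr rfl fun k hk => ?_
  have hck := hc k (Finset.mem_range.1 hk)
  rw [cartan_of_rt (checked_of_mem hD) hu hr hs (fun a _ => e a) (Finset.mem_range.1 hk), zpow_add₀ hck,
    mul_comm (i : ℤ), zpow_mul, zpow_natCast, mul_comm (j : ℤ), zpow_mul, zpow_natCast]

/-- the value of the opposite root -/
theorem chi_neg (hD : InList D) {t : GL D.Idx K} (ht : t ∈ D.diagonalSubgroup K) {r : ℕ} (hr : r < D.nroots)
    (h : chi D K t r = 1) : chi D K t (D.neg r) = 1 := by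
  obtain ⟨c, hc, e1, -⟩ := tor_data hD ht
  have h1 : ∀ x < D.nroots, chi D K t x = ∏ k ∈ Finset.range D.rank, c k ^ D.cartan k x := by
    intro x hx
    rw [chi, dif_pos hx, e1, Matrix.diagonal_apply_eq, Sum.elim_inr]
  have h2 : chi D K t (D.neg r) * chi D K t r = 1 := by
    rw [h1 _ (neg_lt (checked_of_mem hD) hr), h1 r hr, ← Finset.prod_mul_distrib]
    refine Finset.prod_eq_one fun k hk => ?_
    rw [cartan_neg (checked_of_mem hD) (Finset.mem_range.1 hk) hr, zpow_neg,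
      inv_mul_cancel₀ (zpow_ne_zero _ (hc k (Finset.mem_range.1 hk)))]
  rwa [h, mul_one] at h2

variable {F : Subgroup (GL D.Idx K)} {P₁ P₂ : Set ℕ}

/-- the centre of a least bad group lies in the torus, so `Ψ` is closed -/
theorem psi_neg (hD : InList D) (hZ : Zf F ≤ D.diagonalSubgroup K) {r : ℕ} (hr : r ∈ Psi D K F) :
    D.neg r ∈ Psi D K F :=
  ⟨neg_lt (checked_of_mem hD) hr.1, fun z hz => chi_neg hD (hZ hz) hr.1 (hr.2 z hz)⟩

/-- the root subgroups of orthogonal parts of `Ψ` commute -/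
theorem root_comm (hD : InList D) (hZ : Zf F ≤ D.diagonalSubgroup K) (h12 : P₁ ∪ P₂ = Psi D K F)
    (ho : ∀ a ∈ P₁, ∀ b ∈ P₂, pr D a b = 0) {a b : ℕ} (ha : a ∈ P₁) (hb : b ∈ P₂) (t u : K) :
    xG hD a t * xG hD b u = xG hD b u * xG hD a t := by
  have haP : a ∈ Psi D K F := h12 ▸ Or.inl ha
  have hbP : b ∈ Psi D K F := h12 ▸ Or.inr hb
  have hab : pr D a b = 0 := ho a ha b hb
  have hba : pr D b a = 0 := pr_zero_comm hD haP.1 hbP.1 hab
  have hne : b ≠ a := by
    rintro rfl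
    rw [H428.OT.pr_self hD hbP.1] at hab
    exact absurd hab (by norm_num)
  have hneg : b ≠ D.neg a := by
    rintro rfl
    rw [H428.OT.pr_neg hD haP.1] at hab
    exact absurd hab (by norm_num)
  have hnil : D.commTerms a b = [] := by
    rw [List.eq_nil_iff_forall_not_mem]
    rintro ⟨c, C, i, j⟩ hc
    obtain ⟨hcl, -, -, hi, hj, e⟩ := commTerms_rt (checked_of_mem hD) hc
    have hcP : c ∈ Psi D K F := by
      refine ⟨hcl, fun z hz => ?_⟩
      rw [chi_add hD (hZ hz) hcl haP.1 hbP.1 e, haP.2 z hz, hbP.2 z hz, one_pow, one_pow, one_mul]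
    have h1 : pr D a c = 2 * i := by
      rw [pr_add hD hcl haP.1 hbP.1 e, H428.OT.pr_self hD haP.1, hab]
      ring
    have h2 : pr D b c = 2 * j := by
      rw [pr_add hD hcl haP.1 hbP.1 e, H428.OT.pr_self hD hbP.1, hba]
      ring
    rw [← h12] at hcP
    rcases hcP with hc1 | hc2
    · have h3 := pr_zero_comm hD hcl hbP.1 (ho c hc1 b hb)
      rw [h2] at h3
      omega
    · have h3 := ho a ha c hc2
      rw [h1] at h3
      omega
  apply Units.ext
  have h1 := Cfsg.Agent.S1025.result (F := K) D hD a b haP.1 hbP.1 hne hneg t u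
  rw [ChevalleyDatum.commWord, hnil, List.map_nil, wordMat_nil, mul_one] at h1
  exact h1.symm

/-- the group generated by the root subgroups of a set -/
def DD (D : ChevalleyDatum) (K : Type u) [Field K] (P : Set ℕ) : Subgroup (GL D.Idx K) :=
  ⨆ r ∈ P, D.rootSubgroup K r

theorem root_le_DD {P : Set ℕ} {r : ℕ} (hr : r ∈ P) : D.rootSubgroup K r ≤ DD D K P :=
  le_iSup₂ (f := fun r (_ : r ∈ P) => D.rootSubgroup K r) r hr

theorem DD_le_GS (P : Set ℕ) : DD D K P ≤ GS D K P := le_sup_right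

/-- a group normalising every root subgroup of `P` up to `DD P` normalises `DD P` -/
theorem mem_norm_DD {P : Set ℕ} {x : GL D.Idx K} (h : ∀ r ∈ P, ∀ y ∈ D.rootSubgroup K r, x * y * x⁻¹ ∈ DD D K P)
    (h' : ∀ r ∈ P, ∀ y ∈ D.rootSubgroup K r, x⁻¹ * y * x ∈ DD D K P) :
    x ∈ normalizer (DD D K P : Set (GL D.Idx K)) := by
  have key : ∀ z : GL D.Idx K, (∀ r ∈ P, ∀ y ∈ D.rootSubgroup K r, z * y * z⁻¹ ∈ DD D K P) →
      ∀ y ∈ DD D K P, z * y * z⁻¹ ∈ DD D K P := by
    intro z hz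
    have h1 : DD D K P ≤ (DD D K P).comap (MulAut.conj z).toMonoidHom :=
      iSup₂_le fun r hr y hy => hz r hr y hy
    exact fun y hy => h1 hy
  rw [mem_normalizer_iff]
  intro y
  refine ⟨fun hy => key x h y hy, fun hy => ?_⟩
  have h1 := key x⁻¹ (fun r hr y hy => by rw [inv_inv]; exact h' r hr y hy) _ hy
  have h2 : x⁻¹ * (x * y * x⁻¹) * x⁻¹⁻¹ = y := by group
  rwa [h2] at h1

/-- `G(Ψ)` normalises the group generated by a part of `Ψ` -/
theorem GS_le_norm (hD : InList D) (hZ : Zf F ≤ D.diagonalSubgroup K) (h12 : P₁ ∪ P₂ = Psi D K F)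
    (ho : ∀ a ∈ P₁, ∀ b ∈ P₂, pr D a b = 0) :
    GS D K (Psi D K F) ≤ normalizer (DD D K P₁ : Set (GL D.Idx K)) := by
  refine sup_le (fun t ht => ?_) (iSup₂_le fun r hr x hx => ?_)
  · have h1 : ∀ r ∈ P₁, r < D.nroots := fun r hr => (h12 ▸ Or.inl hr : r ∈ Psi D K F).1
    refine mem_norm_DD (fun r hr y hy => root_le_DD hr (tor_conj_root hD ht (h1 r hr) hy)) fun r hr y hy => ?_
    have h2 := tor_conj_root hD (inv_mem ht) (h1 r hr) hy
    rw [inv_inv] at h2
    exact root_le_DD hr h2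
  · rw [← h12] at hr
    rcases hr with hr | hr
    · exact le_normalizer (root_le_DD hr hx)
    · obtain ⟨u, rfl⟩ := (mem_rootSubgroup_iff hD r x).1 hx
      have key : ∀ a ∈ P₁, ∀ y ∈ D.rootSubgroup K a, xG hD r u * y = y * xG hD r u := by
        intro a ha y hy
        obtain ⟨t, rfl⟩ := (mem_rootSubgroup_iff hD a y).1 hy
        exact (root_comm hD hZ h12 ho ha hr t u).symm
      refine mem_norm_DD (fun a ha y hy => ?_) fun a ha y hy => ?_
      · rw [key a ha y hy, mul_inv_cancel_right]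
        exact root_le_DD ha hy
      · rw [mul_assoc, ← key a ha y hy, inv_mul_cancel_left]
        exact root_le_DD ha hy

/-- `h_b(c)` centralises `G(P₁)` for `b` orthogonal to `P₁` -/
theorem hG_cent (hD : InList D) {b : ℕ} (hb : b < D.nroots) {P : Set ℕ} (hP : ∀ a ∈ P, a < D.nroots ∧ pr D b a = 0)
    {c : K} (hc : c ≠ 0) : ∀ x ∈ GS D K P, x * hG hD b c = hG hD b c * x := by
  have h1 : GS D K P ≤ centralizer {hG hD b c} := by
    refine sup_le (fun t ht => ?_) (iSup₂_le fun r hr x hx => ?_)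
    · rw [mem_centralizer_singleton_iff]
      exact tor_comm hD ht (hG_mem hD hb hc)
    · obtain ⟨u, rfl⟩ := (mem_rootSubgroup_iff hD r x).1 hx
      rw [mem_centralizer_singleton_iff]
      have h2 := hG_conj_xG hD hb (hP r hr).1 hc u
      rw [(hP r hr).2, zpow_zero, one_mul, mul_inv_eq_iff_eq_mul] at h2
      exact h2.symm
  exact fun x hx => mem_centralizer_singleton_iff.1 (h1 hx)

/-- `h_a(c) ∈ ⟨X_a, X_{-a}⟩` -/
theorem hG_mem_DD (hD : InList D) {P : Set ℕ} {a : ℕ} (ha : a ∈ P) (hna : D.neg a ∈ P) (c : K) :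
    hG hD a c ∈ DD D K P := by
  apply mem_of_xG_mem hD
  intro q hq
  have h1 : q.1 = a ∨ q.1 = D.neg a := by
    simp only [hWord, nWord, List.mem_append, List.mem_cons, List.not_mem_nil, or_false] at hq
    rcases hq with (rfl | rfl | rfl) | (rfl | rfl | rfl) <;> simp
  rcases h1 with h1 | h1
  · rw [h1]
    exact root_le_DD ha (xG_mem_rootSubgroup hD _ _)
  · rw [h1]
    exact root_le_DD hna (xG_mem_rootSubgroup hD _ _)

/-- **2.3** : `Ψ` is irreducible. -/
theorem psi_irr [Fintype K] {p : ℕ} (hy : Hyp K p D) (h : MinBad D K F) (he : SF D K F = ∅)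
    (lt2 : ∀ g ∈ F, (∀ t ∈ D.diagonalSubgroup K, g * t * g⁻¹ ∈ normalizer (D.diagonalSubgroup K : Set (GL D.Idx K))) →
      g ∈ normalizer (D.diagonalSubgroup K : Set (GL D.Idx K)))
    (cent : ∀ x ∈ F, (∀ t ∈ D.diagonalSubgroup K, x * t = t * x) → x ∈ D.diagonalSubgroup K)
    (hC : F ≤ GS D K (Psi D K F)) (h1 : P₁.Nonempty) (h2 : P₂.Nonempty) (h12 : P₁ ∪ P₂ = Psi D K F)
    (ho : ∀ a ∈ P₁, ∀ b ∈ P₂, pr D a b = 0) : False := by
  have hD := hy.inList
  have hq := hy.card
  obtain ⟨a, ha⟩ := h1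
  obtain ⟨b, hb⟩ := h2
  have hZ : Zf F ≤ D.diagonalSubgroup K := by
    intro z hz
    obtain ⟨hz1, hz2⟩ := mem_Zf.1 hz
    exact cent z hz1 fun t ht => (hz2 t (h.tor ht)).symm
  have haP : a ∈ Psi D K F := h12 ▸ Or.inl ha
  have hbP : b ∈ Psi D K F := h12 ▸ Or.inr hb
  obtain ⟨γ, hγ⟩ := H893.OT.exists_gen K
  -- `F ∩ G(P₁)` is proper in `F`
  have hlt : F ⊓ GS D K P₁ < F := by
    refine lt_of_le_of_ne inf_le_left fun heq => ?_
    have hle : F ≤ GS D K P₁ := by rw [← heq]; exact inf_le_right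
    have h3 : hG hD b (γ : K) ∈ Zf F := by
      refine mem_Zf.2 ⟨h.tor (hG_mem hD hbP.1 γ.ne_zero), fun x hx => ?_⟩
      refine hG_cent hD hbP.1 (fun r hr => ?_) γ.ne_zero x (hle hx)
      have hrP : r ∈ Psi D K F := h12 ▸ Or.inl hr
      exact ⟨hrP.1, pr_zero_comm hD hrP.1 hbP.1 (ho r hr b hb)⟩
    have h4 := hbP.2 _ h3
    rw [chi_hG hD hbP.1 hbP.1 γ.ne_zero, H428.OT.pr_self hD hbP.1] at h4
    have h5 := H893.OT.dvd_of_zpow hγ h4
    have h6 := Int.le_of_dvd (by norm_num) h5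
    omega
  have hN := MinBad.le_norm h he (le_inf h.tor le_sup_left) hlt
  -- the conjugates of `h_a(c)` normalise `T`
  have hna : D.neg a ∈ P₁ := by
    have h3 : D.neg a ∈ P₁ ∪ P₂ := by rw [h12]; exact psi_neg hD hZ haP
    rcases h3 with h3 | h3
    · exact h3
    · have h4 := ho a ha _ h3
      rw [H428.OT.pr_neg hD haP.1] at h4
      exact absurd h4 (by norm_num)
  have hconj : ∀ f ∈ F, ∀ c : K, c ≠ 0 →
      f * hG hD a c * f⁻¹ ∈ normalizer (D.diagonalSubgroup K : Set (GL D.Idx K)) := by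
    intro f hf c hc
    refine hN (Subgroup.mem_inf.2 ⟨mul_mem (mul_mem hf (h.tor (hG_mem hD haP.1 hc))) (inv_mem hf), DD_le_GS P₁ ?_⟩)
    exact (mem_normalizer_iff.1 (GS_le_norm hD hZ h12 ho (hC hf)) _).1 (hG_mem_DD hD ha hna c)
  obtain ⟨f, hf, hfN⟩ : ∃ f ∈ F, f ∉ normalizer (D.diagonalSubgroup K : Set (GL D.Idx K)) := by
    by_contra hcon
    push Not at hcon
    exact MinBad.not_le_norm h hcon
  have hl : ∀ r ∈ [a], r < D.nroots := by simpa using haP.1
  have ehL : ∀ c : K, H893.OT.hL hD [a] c = hG hD a c := by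
    intro c
    rw [H893.OT.hL, List.map_cons, List.map_nil, List.prod_cons, List.prod_nil, mul_one]
  have hlau : f * hG hD a ((γ ^ 2 : Kˣ) : K) * f⁻¹ ∈ D.diagonalSubgroup K := by
    apply cent _ (mul_mem (mul_mem hf (h.tor (hG_mem hD haP.1 (γ ^ 2).ne_zero))) (inv_mem hf))
    have h3 := H893.OT.lau_sq (T := D.diagonalSubgroup K) (H893.OT.isDiag hD) (a := -3) (D := 6) (by omega)
      (e := H893.OT.ex D [a]) (fun x => by
        rcases x with i | x
        · simp only [H893.OT.ex, Sum.elim_inl]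
          constructor <;> norm_num
        · simp only [H893.OT.ex, Sum.elim_inr, List.map_cons, List.map_nil, List.sum_cons, List.sum_nil, add_zero]
          have h4 := abs_le.1 (H428.OT.abs_pr_le_three hD haP.1 x.2)
          constructor
          · exact h4.1
          · have := h4.2
            push_cast
            linarith) f
      (fun c => by
        rw [H893.OT.dco_eq hD hl, ehL]
        exact hconj f hf c c.ne_zero) γ
    rwa [H893.OT.dco_eq hD hl, ehL] at h3
  have hmem : hG hD a ((γ ^ 2 : Kˣ) : K) ∈ Zf F := by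
    by_contra h7
    exact hfN (ti0 hD h he lt2 (hG_mem hD haP.1 (γ ^ 2).ne_zero) hf hlau h7)
  have h8 := haP.2 _ hmem
  rw [chi_hG hD haP.1 haP.1 (γ ^ 2).ne_zero, H428.OT.pr_self hD haP.1, Units.val_pow_eq_pow_val, ← zpow_natCast,
    ← zpow_mul] at h8
  have h9 := H893.OT.dvd_of_zpow hγ h8
  have h10 := Int.le_of_dvd (by norm_num) h9
  push_cast at h10
  omega

end Cfsg.Agent.H48.OT
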